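import Groth.Agent.Etbc.H182.Skel
import Groth.Agent.Etbc.H185.LTors
import Groth.Agent.EtpbcA.RpushTors

/-!
# Direct images of `L`-torsion sheaves (piece (T) of S3521)

* `exists_nsmul_eq_zero_of_compact`: sections of an `N`-torsion sheaf over a quasi-compact etale scheme are killed by an
  element of `N`;
* `torsionN_push`, `pushTorsion`: `f_*` of an `N`-torsion (`L`-torsion) sheaf is `N`-torsion (`L`-torsion), `f` quasi-compact.
-/

set_option autoImplicit false
universe u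

open CategoryTheory CategoryTheory.Limits AlgebraicGeometry Opposite

namespace Groth.Agent.Etbc.H644.PushTorsion

open Groth.Agent.Etbase Groth.Agent.EtpbcB.TorsSubN Groth.Agent.EtpbcB.TorsEtN Groth.Agent.Etbc.H185.LTors

variable {X Y : Scheme.{u}}

/-- Sections of an `N`-torsion sheaf over a quasi-compact etale scheme are killed by an element of `N`. -/
theorem exists_nsmul_eq_zero_of_compact {N : Set ℕ} (hN : IsOrd N) (F : EtCoh.Ab X) (hF : TorsionN N F)
    (U : X.Etale) [CompactSpace U.left] (s : EtCoh.sect F U) : ∃ m : ℕ, m ∈ N ∧ m • s = 0 := by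
  let W : N → Set U.left := fun m => {x | EtSections.VanishesAt F U (m.1 • s) x}
  have hW : ∀ m, IsOpen (W m) := fun m => EtSections.isOpen_vanishesAt F U _
  have hcov : (⋃ m, W m) = Set.univ := by
    rw [Set.eq_univ_iff_forall]
    intro x
    obtain ⟨V, g, m, ⟨v, hv⟩, hm, hgm⟩ := hF U s x
    refine Set.mem_iUnion.2 ⟨⟨m, hm⟩, V, g, v, hv, ?_⟩
    rw [map_nsmul]
    exact hgm
  obtain ⟨T, hT⟩ := isCompact_univ.elim_finite_subcover W hW (by rw [hcov])
  refine ⟨∏ m ∈ T, m.1, Finset.prod_induction _ (fun m => m ∈ N) (fun _ _ h h' => hN.mul_mem h h')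
    hN.one_mem (fun m _ => m.2), ?_⟩
  apply EtSections.eq_zero_of_vanishesAt F U
  intro x
  obtain ⟨m, hm⟩ := Set.mem_iUnion.1 (hT (Set.mem_univ x))
  obtain ⟨hmT, V, g, v, hv, h0⟩ := Set.mem_iUnion.1 hm
  refine ⟨V, g, v, hv, ?_⟩
  obtain ⟨c, hc⟩ := Finset.dvd_prod_of_mem (fun m : N => m.1) hmT
  rw [hc, mul_comm, mul_smul, map_nsmul, h0, smul_zero]

theorem torsionN_push {N : Set ℕ} (hN : IsOrd N) (f : X ⟶ Y) [QuasiCompact f] (F : EtCoh.Ab X)
    (hF : TorsionN N F) : TorsionN N ((EtCoh.push f).obj F) := by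
  intro U s x
  obtain ⟨V, g, hV, -, v, hv⟩ := Groth.Agent.Etrest.Site0.exists_affine U x
  have := Groth.Agent.EtpbcA.RpushTors.compactSpace_bc f V hV
  obtain ⟨m, hm, h⟩ := exists_nsmul_eq_zero_of_compact hN F hF ((EtCoh.bc f).obj V)
    (((EtCoh.push f).obj F).obj.map g.op s)
  exact ⟨V, g, m, ⟨v, hv⟩, hm, h⟩

theorem isLTorsion_push (L : Set ℕ) (f : X ⟶ Y) [QuasiCompact f] (F : EtCoh.Ab X)
    (hF : EtAcyc.IsLTorsion L F) : EtAcyc.IsLTorsion L ((EtCoh.push f).obj F) :=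
  (isLTorsion_iff L _).2 (torsionN_push (isOrd_ordL L) f F ((isLTorsion_iff L F).1 hF))

/-- (T) -/
theorem pushTorsion : Groth.Agent.Etbc.H182.Skel.PushTorsion.{u} :=
  fun f _ _ L F hF => isLTorsion_push L f F hF

end Groth.Agent.Etbc.H644.PushTorsion
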